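import Mathlib
import Groth.Agent.Lib.Helper2.FF.FrobRange

/-!
# The image of a high power of Frobenius is geometrically reduced (helper2)
-/

set_option autoImplicit false
universe u v
open TensorProduct

namespace Groth.Agent.Helper2.FrobImageRed

section

variable (K : Type u) [Field K] [PerfectField K] (p : ℕ) [Fact p.Prime] [CharP K p]
  (T : Type v) [CommRing T] [Algebra K T]

include K in
omit [PerfectField K] in
lemma add_pow_ppow (n : ℕ) (x y : T) : (x + y) ^ p ^ n = x ^ p ^ n + y ^ p ^ n := by
  rcases subsingleton_or_nontrivial T with h | h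
  · exact Subsingleton.elim _ _
  · haveI : CharP T p := charP_of_injective_algebraMap (algebraMap K T).injective p
    exact add_pow_char_pow x y p n

/-- the `K`-subalgebra of `p^n`-th powers -/
def powSub (n : ℕ) : Subalgebra K T where
  carrier := Set.range (fun a : T => a ^ p ^ n)
  mul_mem' := by
    rintro _ _ ⟨a, rfl⟩ ⟨b, rfl⟩
    exact ⟨a * b, mul_pow a b _⟩
  add_mem' := by
    rintro _ _ ⟨a, rfl⟩ ⟨b, rfl⟩
    exact ⟨a + b, add_pow_ppow K p T n a b⟩
  algebraMap_mem' := by
    intro c
    haveI : PerfectRing K p := PerfectField.toPerfectRing p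
    obtain ⟨d, hd⟩ := (iterateFrobeniusEquiv K p n).surjective c
    refine ⟨algebraMap K T d, ?_⟩
    show (algebraMap K T d) ^ p ^ n = algebraMap K T c
    rw [← map_pow, ← hd]
    rfl

end

/-- the subalgebra generated by the `p^n`-th powers is geometrically reduced for `n` large -/
theorem exists_isGeometricallyReduced (k : Type u) [Field k] (p : ℕ) [Fact p.Prime] [CharP k p]
    (R : Type u) [CommRing R] [Algebra k R] [Algebra.FiniteType k R] :
    ∃ n : ℕ, Algebra.IsGeometricallyReduced k
      ↥(Algebra.adjoin k (Set.range (fun x : R => x ^ (p ^ n)))) := by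
  let K := AlgebraicClosure k
  haveI : CharP K p := charP_of_injective_algebraMap (algebraMap k K).injective p
  let T := K ⊗[k] R
  haveI : Algebra.FiniteType K T := inferInstance
  haveI : IsNoetherianRing T := Algebra.FiniteType.isNoetherianRing K T
  obtain ⟨n, hn⟩ := FrobRange.exists_pow_eq_zero_of_isNilpotent (A := T) p
  refine ⟨n, ?_⟩
  rw [Algebra.isGeometricallyReduced_field_iff]
  set B := Algebra.adjoin k (Set.range (fun x : R => x ^ (p ^ n))) with hB
  let ι : K ⊗[k] B →ₐ[K] T := Algebra.TensorProduct.map (AlgHom.id K K) B.val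
  have hι : Function.Injective ι :=
    Module.Flat.lTensor_preserves_injective_linearMap (M := K) B.val.toLinearMap
      Subtype.val_injective
  -- the range of ι consists of `p^n`-th powers
  have hBle : B ≤ ((powSub K p T n).restrictScalars k).comap
      (Algebra.TensorProduct.includeRight : R →ₐ[k] K ⊗[k] R) := by
    rw [hB, Algebra.adjoin_le_iff]
    rintro _ ⟨x, rfl⟩
    exact ⟨(1 : K) ⊗ₜ[k] x, (map_pow (Algebra.TensorProduct.includeRight : R →ₐ[k] K ⊗[k] R)
      x _).symm⟩
  have hrange : ∀ t : K ⊗[k] B, ι t ∈ powSub K p T n := by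
    intro t
    induction t using TensorProduct.induction_on with
    | zero => rw [map_zero]; exact Subalgebra.zero_mem _
    | add s t hs ht => rw [map_add]; exact Subalgebra.add_mem _ hs ht
    | tmul c b =>
      have h1 : ι (c ⊗ₜ[k] b) = c • ((1 : K) ⊗ₜ[k] (b : R)) := by
        show (c ⊗ₜ[k] (b : R) : K ⊗[k] R) = _
        rw [TensorProduct.smul_tmul', smul_eq_mul, mul_one]
      rw [h1]
      have h2 : (1 : K) ⊗ₜ[k] (b : R) ∈ powSub K p T n := hBle b.2
      exact Subalgebra.smul_mem _ h2 c
  let ι' : K ⊗[k] B →ₐ[K] powSub K p T n := ι.codRestrict _ hrange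
  have hι' : Function.Injective ι' := by
    intro a b hab
    apply hι
    exact congrArg Subtype.val hab
  haveI : IsReduced (powSub K p T n) :=
    FrobRange.isReduced_of_range_pow (p ^ n) (hn n le_rfl) (powSub K p T n) rfl
      (pow_ne_zero _ (Fact.out : p.Prime).ne_zero)
  exact isReduced_of_injective ι' hι'

end Groth.Agent.Helper2.FrobImageRed
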